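import Cfsg.Agent.H38.FiM24.Act
import Cfsg.Agent.S0364
import Cfsg.Agent.S0365

/-!
A normalizer permuting pair labels in a self-centralising elementary abelian subgroup of order `2^11`
induces the Mathieu group of degree 24.
-/

set_option autoImplicit false

namespace H38.FiM24

open H73.FiM24 Cfsg

theorem eq_top_of_big (S : Subgroup ↥M24) (h : 13601280 ∣ Nat.card S) : S = ⊤ := by
  haveI : IsSimpleGroup ↥M24 := Cfsg.Agent.S0365.result
  by_contra hne
  have hc : Nat.card S * S.index = 244823040 := S.card_mul_index.trans Cfsg.Agent.S0364.result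
  obtain ⟨c, hc'⟩ := h
  have hidx : S.index ∣ 18 := ⟨c, by
    rw [hc', mul_assoc, show (244823040 : ℕ) = 13601280 * 18 from rfl] at hc
    rw [mul_comm]; exact (Nat.eq_of_mul_eq_mul_left (by norm_num) hc).symm⟩
  let φ := MulAction.toPermHom ↥M24 (↥M24 ⧸ S)
  have hker : φ.ker = ⊥ := (IsSimpleGroup.eq_bot_or_eq_top_of_normal φ.ker inferInstance).resolve_right
    fun h => hne (top_le_iff.1 (h ▸ Subgroup.normalCore_eq_ker S ▸ S.normalCore_le))
  have hdvd := Subgroup.card_dvd_of_injective φ ((MonoidHom.ker_eq_bot_iff φ).1 hker)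
  rw [Nat.card_perm, ← Subgroup.index_eq_card, Cfsg.Agent.S0364.result] at hdvd
  have h18 : S.index.factorial ∣ Nat.factorial 18 :=
    Nat.factorial_dvd_factorial (Nat.le_of_dvd (by norm_num) hidx)
  exact absurd (hdvd.trans h18) (by decide +kernel)

variable {G : Type*} [Group G] [Finite G]

theorem exists_iso {A M : Subgroup G} (hAM : A ≤ M) (hnorm : ∀ m ∈ M, ∀ a ∈ A, m * a * m⁻¹ ∈ A)
    (hcomm : ∀ a ∈ A, ∀ b ∈ A, a * b = b * a)
    (hself : ∀ m ∈ M, (∀ a ∈ A, m * a * m⁻¹ = a) → m ∈ A)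
    {V α : Type*} [AddCommGroup V] [Fintype V] [DecidableEq V] [Fintype α] [DecidableEq α]
    (L : PairLabels V α) (φ : ↥A → V) (hφ : ∀ a b, φ (a * b) = φ a + φ b)
    (hbij : Function.Bijective φ) (T : Set G)
    (hT : ∀ a : ↥A, (a : G) ∈ T ↔ ∃ p q, p ≠ q ∧ φ a = L.t p q)
    (hTinv : ∀ m ∈ M, ∀ a ∈ T, m * a * m⁻¹ ∈ T)
    (hdiv : 2 ^ 11 * 13601280 ∣ Nat.card M) :
    ∃ _ : (A.subgroupOf M).Normal, Nonempty (↥M ⧸ A.subgroupOf M ≃* ↥M24) := by
  have hn : (A.subgroupOf M).Normal := ⟨fun a ha m => by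
    rw [Subgroup.mem_subgroupOf] at ha ⊢
    simpa using hnorm m m.2 _ ha⟩
  refine ⟨hn, ?_⟩
  let ψ := Equiv.ofBijective φ hbij
  have hψ : ∀ v, φ (ψ.symm v) = v := fun v => ψ.apply_symm_apply v
  let cj : ↥M → ↥A → ↥A := fun m a => ⟨m * a * (m : G)⁻¹, hnorm m m.2 a a.2⟩
  have hcjm : ∀ m a b, cj m (a * b) = cj m a * cj m b := fun m a b =>
    Subtype.ext (by simp [cj, mul_assoc])
  let lin : ↥M → V →+ V := fun m => AddMonoidHom.mk' (fun v => φ (cj m (ψ.symm v))) fun u v => by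
    have e : ψ.symm (u + v) = ψ.symm u * ψ.symm v := hbij.1 (by rw [hψ, hφ, hψ, hψ])
    rw [e, hcjm, hφ]
  have hlin : ∀ m a, lin m (φ a) = φ (cj m a) := fun m a => by
    show φ (cj m (ψ.symm (φ a))) = _
    rw [show ψ.symm (φ a) = a from ψ.symm_apply_apply a]
  have h1 : ∀ v, lin 1 v = v := fun v => by
    rw [← hψ v, hlin]; exact congrArg φ (Subtype.ext (by simp [cj]))
  have hmul : ∀ g h v, lin (g * h) v = lin g (lin h v) := fun g h v => by
    rw [← hψ v, hlin, hlin, hlin]; exact congrArg φ (Subtype.ext (by simp [cj, mul_assoc]))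
  have hinv : ∀ m p q, p ≠ q → ∃ r s, r ≠ s ∧ lin m (L.t p q) = L.t r s := by
    intro m p q hpq
    have hmem : ((ψ.symm (L.t p q) : ↥A) : G) ∈ T := (hT _).2 ⟨p, q, hpq, hψ _⟩
    obtain ⟨r, s, hrs, e⟩ := (hT (cj m (ψ.symm (L.t p q)))).1 (hTinv m m.2 _ hmem)
    exact ⟨r, s, hrs, by rw [← e, ← hlin, hψ]⟩
  obtain ⟨act, hact, hker⟩ := exists_act L lin h1 hmul hinv
  obtain ⟨π, -, -, hπ⟩ := L.exists_hom act lin hact
  have hkerA : π.ker = A.subgroupOf M := by
    ext m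
    rw [hπ, hker, Subgroup.mem_subgroupOf]
    constructor
    · intro h
      refine hself m m.2 fun a ha => ?_
      have e := h (φ ⟨a, ha⟩)
      rw [hlin] at e
      exact congrArg Subtype.val (hbij.1 e)
    · intro hm v
      rw [← hψ v, hlin]
      refine congrArg φ (Subtype.ext ?_)
      show (m : G) * (ψ.symm v : ↥A) * (m : G)⁻¹ = _
      rw [hcomm _ hm _ (ψ.symm v).2, mul_inv_cancel_right]
  have hA : Nat.card A = 2 ^ 11 := by
    rw [Nat.card_congr ψ, Nat.card_eq_fintype_card, L.card_V]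
  have hsurj : π.range = ⊤ := by
    refine eq_top_of_big _ ((Nat.mul_dvd_mul_iff_left (show 0 < 2 ^ 11 by norm_num)).1 ?_)
    rwa [← hA, ← Nat.card_congr (Subgroup.subgroupOfEquivOfLe hAM).toEquiv, ← hkerA,
      ← Subgroup.index_ker, π.ker.card_mul_index, hkerA, Nat.card_congr (Subgroup.subgroupOfEquivOfLe hAM).toEquiv, hA]
  exact ⟨(QuotientGroup.quotientMulEquivOfEq hkerA.symm).trans
    (QuotientGroup.quotientKerEquivOfSurjective π (MonoidHom.range_eq_top.1 hsurj))⟩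

end H38.FiM24
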