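import Cfsg.Agent.H73.FiM24.Pairs

/-!
Linear maps preserving the pair labels permute the points; the labels span.
-/

set_option autoImplicit false

namespace H38.FiM24

open H73.FiM24 Finset

variable {V α : Type*} [AddCommGroup V] [Fintype V] [DecidableEq V] [Fintype α] [DecidableEq α]
  (L : PairLabels V α)

/-- The map sends the labels at `p` to labels at `x`. -/
def Sends (f : V →+ V) (p x : α) : Prop := ∀ q, q ≠ p → ∃ y, y ≠ x ∧ f (L.t p q) = L.t x y

omit [DecidableEq V] in
theorem two_others (L : PairLabels V α) (p : α) : ∃ q q', q ≠ p ∧ q' ≠ p ∧ q ≠ q' := by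
  have h : 1 < (univ.erase p).card := by
    rw [card_erase_of_mem (mem_univ p), card_univ, L.card_pts]; norm_num
  obtain ⟨q, hq, q', hq', hne⟩ := one_lt_card.1 h
  exact ⟨q, q', (mem_erase.1 hq).1, (mem_erase.1 hq').1, hne⟩

omit [DecidableEq V] in
theorem t_inj_right {p q r : α} (hq : q ≠ p) (h : L.t p q = L.t p r) : q = r := by
  rcases L.inj p q p r hq.symm h with ⟨-, h2⟩ | ⟨h1, -⟩
  · exact h2.symm
  · exact absurd h1.symm hq

omit [DecidableEq V] in
theorem sends_unique {f : V →+ V} (hf : Function.Injective f) {p x x' : α}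
    (h : Sends L f p x) (h' : Sends L f p x') : x = x' := by
  obtain ⟨q, q', hq, hq', hne⟩ := two_others L p
  by_contra hx
  have key : ∀ r, r ≠ p → f (L.t p r) = L.t x x' := by
    intro r hr
    obtain ⟨y, hy, e⟩ := h r hr
    obtain ⟨y', hy', e'⟩ := h' r hr
    rcases L.inj x y x' y' hy.symm (e.symm.trans e') with ⟨a, -⟩ | ⟨a, -⟩
    · exact absurd a.symm hx
    · rw [e, a]
  exact hne (t_inj_right L hq (hf ((key q hq).trans (key q' hq').symm)))

omit [DecidableEq V] in
theorem exists_sends {f : V →+ V} (hf : Function.Injective f)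
    (hinv : ∀ p q, p ≠ q → ∃ r s, r ≠ s ∧ f (L.t p q) = L.t r s) (p : α) :
    ∃ x, Sends L f p x := by
  classical
  obtain ⟨q, q', hq, hq', hne⟩ := two_others L p
  obtain ⟨a, b, hab, e1⟩ := hinv p q hq.symm
  obtain ⟨c, d, hcd, e2⟩ := hinv p q' hq'.symm
  have hsum : ∀ r r', r ≠ p → r' ≠ p → f (L.t p r) + f (L.t p r') = f (L.t r r') := by
    intro r r' _ _
    rw [← map_add, L.t_comm p r, L.add]
  -- common point of the first two images
  obtain ⟨x, y, y', hy, hy', f1, f2⟩ : ∃ x y y', y ≠ x ∧ y' ≠ x ∧ f (L.t p q) = L.t x y ∧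
      f (L.t p q') = L.t x y' := by
    obtain ⟨g, h, -, e3⟩ := hinv q q' hne
    have hs : L.t a b + L.t c d = L.t g h := by rw [← e1, ← e2, ← e3]; exact hsum q q' hq hq'
    by_cases h1 : a = c
    · exact ⟨a, b, d, hab.symm, h1 ▸ hcd.symm, e1, h1 ▸ e2⟩
    by_cases h2 : a = d
    · exact ⟨a, b, c, hab.symm, h2 ▸ hcd, e1, by rw [e2, L.t_comm c d, h2]⟩
    by_cases h3 : b = c
    · exact ⟨b, a, d, hab, h3 ▸ hcd.symm, by rw [e1, L.t_comm], h3 ▸ e2⟩
    by_cases h4 : b = d
    · exact ⟨b, a, c, hab, h4 ▸ hcd, by rw [e1, L.t_comm], by rw [e2, L.t_comm c d, h4]⟩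
    exact absurd hs (L.far a b c d hab hcd h1 h2 h3 h4 g h)
  have hyy : y ≠ y' := fun e => hne (t_inj_right L hq (hf (by rw [f1, f2, e])))
  refine ⟨x, fun r hr => ?_⟩
  by_cases hrq : r = q
  · exact ⟨y, hy, hrq ▸ f1⟩
  by_cases hrq' : r = q'
  · exact ⟨y', hy', hrq' ▸ f2⟩
  obtain ⟨u, w, huw, e3⟩ := hinv p r hr.symm
  by_cases hu : u = x
  · exact ⟨w, hu ▸ huw.symm, hu ▸ e3⟩
  by_cases hw : w = x
  · exact ⟨u, hw ▸ huw, by rw [e3, L.t_comm, hw]⟩
  exfalso
  -- otherwise the image meets both others outside x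
  have meet : ∀ s v, v ≠ x → s ≠ p → r ≠ s → f (L.t p s) = L.t x v → u = v ∨ w = v := by
    intro s v hv hs hrs es
    by_contra hcon
    push Not at hcon
    obtain ⟨g, h, -, e4⟩ := hinv s r hrs.symm
    exact L.far x v u w hv.symm huw (Ne.symm hu) (Ne.symm hw) hcon.1.symm hcon.2.symm g h
      (by rw [← es, ← e3, ← e4]; exact hsum s r hs hr)
  have htri : L.t u w = L.t x y + L.t x y' := by
    rw [L.t_comm x y, L.add]
    rcases meet q y hy hq hrq f1 with rfl | rfl <;> rcases meet q' y' hy' hq' hrq' f2 with rfl | rfl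
    · exact absurd rfl hyy
    · rfl
    · exact L.t_comm _ _
    · exact absurd rfl hyy
  have e5 : f (L.t p r) = f (L.t q q') := by rw [e3, htri, ← f1, ← f2]; exact hsum q q' hq hq'
  rcases L.inj p r q q' hr.symm (hf e5) with ⟨a', -⟩ | ⟨-, b'⟩
  · exact hq a'
  · exact hq' b'

/-- A group of linear maps preserving the set of labels acts on the points. -/
theorem exists_act {Γ : Type*} [Group Γ] (lin : Γ → V →+ V) (h1 : ∀ v, lin 1 v = v)
    (hmul : ∀ g h v, lin (g * h) v = lin g (lin h v))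
    (hinv : ∀ g p q, p ≠ q → ∃ r s, r ≠ s ∧ lin g (L.t p q) = L.t r s) :
    ∃ act : Γ →* Equiv.Perm α, (∀ g p q, lin g (L.t p q) = L.t (act g p) (act g q)) ∧
      ∀ g, g ∈ act.ker ↔ ∀ v, lin g v = v := by
  classical
  have hinj : ∀ g, Function.Injective (lin g) := fun g u v e => by
    have := congrArg (lin g⁻¹) e
    rwa [← hmul, ← hmul, inv_mul_cancel, h1, h1] at this
  choose F hF using fun g p => exists_sends L (hinj g) (hinv g) p
  have hone : ∀ p, F 1 p = p := fun p =>
    sends_unique L (hinj 1) (hF 1 p) fun q hq => ⟨q, hq, h1 _⟩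
  have hcomp : ∀ g h p, F (g * h) p = F g (F h p) := fun g h p =>
    sends_unique L (hinj _) (hF _ p) fun q hq => by
      obtain ⟨y, hy, e⟩ := hF h p q hq
      obtain ⟨y', hy', e'⟩ := hF g (F h p) y hy
      exact ⟨y', hy', by rw [hmul, e, e']⟩
  let act : Γ →* Equiv.Perm α := MonoidHom.mk'
    (fun g => ⟨F g, F g⁻¹, fun p => by rw [← hcomp, inv_mul_cancel, hone],
      fun p => by rw [← hcomp, mul_inv_cancel, hone]⟩)
    fun g h => Equiv.ext fun p => hcomp g h p
  have hact : ∀ g p, act g p = F g p := fun _ _ => rfl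
  have heq : ∀ g p q, lin g (L.t p q) = L.t (act g p) (act g q) := by
    intro g p q
    rcases eq_or_ne p q with rfl | hpq
    · rw [L.t_self, L.t_self, map_zero]
    have hFne : F g p ≠ F g q := fun e => hpq ((act g).injective e)
    obtain ⟨y, hy, e⟩ := hF g p q hpq.symm
    obtain ⟨y', -, e'⟩ := hF g q p hpq
    rw [L.t_comm, e] at e'
    rcases L.inj _ _ _ _ hy.symm e' with ⟨a, -⟩ | ⟨a, -⟩
    · exact absurd a.symm hFne
    · rw [hact, hact, e, a]
  refine ⟨act, heq, fun g => ⟨fun hg v => ?_, fun hg => ?_⟩⟩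
  · have hfix : ∀ p q, lin g (L.t p q) = L.t p q := fun p q => by
      rw [heq, MonoidHom.mem_ker.1 hg]; rfl
    obtain ⟨o⟩ : Nonempty α := Fintype.card_pos_iff.mp (by rw [L.card_pts]; norm_num)
    have hval : ∀ w, lin g (L.val o w) = L.val o w := fun w => by
      rw [PairLabels.val, map_sum]
      exact sum_congr rfl fun i _ => hfix o i
    by_cases hv : v ∈ L.far4 o
    · obtain ⟨w, hw⟩ : (L.fib o v).Nonempty := card_pos.1 (by rw [L.card_fib o hv]; norm_num)
      rw [← (mem_filter.1 hw).2, hval]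
    · simp only [PairLabels.far4, mem_sdiff, mem_univ, true_and, not_not] at hv
      rcases mem_insert.1 hv with rfl | hv
      · rw [map_zero]
      · obtain ⟨w, -, rfl⟩ := mem_image.1 hv
        exact hval w
  · refine MonoidHom.mem_ker.2 (Equiv.ext fun p => ?_)
    exact sends_unique L (hinj g) (hF g p) fun q hq => ⟨q, hq, hg _⟩

end H38.FiM24
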